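import Mathlib

/-!
A solvable permutation group containing a cycle of odd prime power length on all the points respects the
residues modulo the prime, acting on them affinely.
-/

set_option autoImplicit false

namespace Cfsg.Agent.PPairs

open scoped Classical
open Polynomial

/-- A non-trivial solvable group has a non-trivial normal abelian subgroup of prime exponent. -/
theorem exists_elementary {G : Type*} [Group G] [Finite G] [Group.IsSolvable G] [Nontrivial G] :
    ∃ (r : ℕ) (N : Subgroup G), r.Prime ∧ N.Normal ∧ N ≠ ⊥ ∧ (∀ a ∈ N, ∀ b ∈ N, a * b = b * a) ∧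
      ∀ a ∈ N, a ^ r = 1 := by
  obtain ⟨A, hAn, hA, hAc⟩ : ∃ A : Subgroup G, A.Normal ∧ A ≠ ⊥ ∧ ∀ a ∈ A, ∀ b ∈ A, a * b = b * a := by
    obtain ⟨n, hn⟩ := (Group.isSolvable_def (G := G)).1 inferInstance
    classical
    have hex : ∃ m, derivedSeries G m = ⊥ := ⟨n, hn⟩
    set m := Nat.find hex with hm
    have hm0 : m ≠ 0 := fun e => by
      have := Nat.find_spec hex
      rw [← hm, e, derivedSeries_zero] at this
      exact top_ne_bot this
    refine ⟨derivedSeries G (m - 1), derivedSeries_normal G (m - 1), Nat.find_min hex (by omega), fun a ha b hb => ?_⟩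
    have h := Nat.find_spec hex
    rw [← hm, show m = m - 1 + 1 by omega, derivedSeries_succ, eq_bot_iff] at h
    have h2 := h (Subgroup.commutator_mem_commutator ha hb)
    rwa [Subgroup.mem_bot, commutatorElement_eq_one_iff_mul_comm] at h2
  have hcard : Nat.card A ≠ 1 := fun e => hA (Subgroup.eq_bot_of_card_eq A e)
  obtain ⟨r, hr, hrd⟩ := Nat.exists_prime_and_dvd hcard
  haveI := Fact.mk hr
  let N : Subgroup G :=
    { carrier := {a | a ∈ A ∧ a ^ r = 1}
      mul_mem' := fun {a b} ha hb => ⟨mul_mem ha.1 hb.1, by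
        rw [(show Commute a b from hAc a ha.1 b hb.1).mul_pow, ha.2, hb.2, one_mul]⟩
      one_mem' := ⟨one_mem _, one_pow r⟩
      inv_mem' := fun {a} ha => ⟨inv_mem ha.1, by rw [inv_pow, ha.2, inv_one]⟩ }
  refine ⟨r, N, hr, ⟨fun a ha g => ⟨hAn.conj_mem a ha.1 g, by rw [conj_pow, ha.2, mul_one, mul_inv_cancel]⟩⟩,
    fun e => ?_, fun a ha b hb => hAc a ha.1 b hb.1, fun a ha => ha.2⟩
  obtain ⟨x, hx⟩ := exists_prime_orderOf_dvd_card' (G := A) r hrd
  have hm : (x : G) ∈ N := ⟨x.2, by
    rw [← Subgroup.coe_pow, ← hx, pow_orderOf_eq_one, Subgroup.coe_one]⟩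
  rw [e, Subgroup.mem_bot, OneMemClass.coe_eq_one] at hm
  rw [hm, orderOf_one] at hx
  exact hr.one_lt.ne hx

theorem geom_sum_eq (p : ℕ) [Fact p.Prime] (m : ℕ) :
    (∑ i ∈ Finset.range (p ^ m), (X : (ZMod p)[X]) ^ i) = (X - 1) ^ (p ^ m - 1) := by
  have h1 : 1 ≤ p ^ m := Nat.one_le_pow _ _ (Fact.out : p.Prime).pos
  refine mul_right_cancel₀ (show (X - 1 : (ZMod p)[X]) ≠ 0 from X_sub_C_ne_zero 1) ?_
  rw [geom_sum_mul, ← pow_succ, show p ^ m - 1 + 1 = p ^ m by omega, sub_pow_char_pow, one_pow]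

/-- An affine map of a vector space over `p` elements, whose linear part has order a power of `p`, has its
`p ^ m`-th power trivial once `p ^ m` exceeds the dimension. -/
theorem affine_pow (p : ℕ) [Fact p.Prime] {V : Type*} [AddCommGroup V] [Module (ZMod p) V] [Finite V]
    (L : Module.End (ZMod p) V) {k m : ℕ} (hL : L ^ p ^ k = 1) (hm : Module.finrank (ZMod p) V < p ^ m) :
    L ^ p ^ m = 1 ∧ ∑ i ∈ Finset.range (p ^ m), L ^ i = 0 := by
  have hnil : IsNilpotent (L - 1) := ⟨p ^ k, by
    have h := congrArg (aeval L) (sub_pow_char_pow (R := (ZMod p)[X]) (p := p) (n := k) X 1)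
    simp only [map_pow, map_sub, map_one, aeval_X, one_pow] at h
    rw [h, hL, sub_self]⟩
  have hd : ∀ j, Module.finrank (ZMod p) V ≤ j → (L - 1) ^ j = 0 := fun j hj => by
    have h := LinearMap.aeval_self_charpoly (L - 1)
    rw [IsNilpotent.charpoly_eq_X_pow_finrank hnil, map_pow, aeval_X] at h
    rw [← Nat.sub_add_cancel hj, pow_add, h, mul_zero]
  refine ⟨?_, ?_⟩
  · have h := congrArg (aeval L) (sub_pow_char_pow (R := (ZMod p)[X]) (p := p) (n := m) X 1)
    simp only [map_pow, map_sub, map_one, aeval_X, one_pow] at h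
    rw [hd _ hm.le, eq_comm, sub_eq_zero] at h
    exact h
  · have h := congrArg (aeval L) (geom_sum_eq p m)
    simp only [map_sum, map_pow, map_sub, map_one, aeval_X] at h
    rw [h]
    exact hd _ (by omega)

theorem iterate_cycle_aux (p : ℕ) [Fact p.Prime] {V : Type*} [AddCommGroup V] [Module (ZMod p) V] [Finite V]
    (f : V →+ V) {k a : ℕ} (hk : ∀ v, f^[p ^ k] v = v) (hcard : Nat.card V = p ^ a) :
    (a = 1 → ∀ v, f v = v) ∧
    ∀ (P m : ℕ) (φ : V → ZMod P) (mv : V), (∀ v, φ v + 1 = φ (f v + mv)) → a < p ^ m → ((p ^ m : ℕ) : ZMod P) = 0 := by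
  have hfr : Module.finrank (ZMod p) V = a := by
    rw [Module.natCard_eq_pow_finrank (K := ZMod p), Nat.card_zmod] at hcard
    exact Nat.pow_right_injective (Fact.out : p.Prime).two_le hcard
  set L : Module.End (ZMod p) V := f.toZModLinearMap p
  have hLi : ∀ (i : ℕ) v, (L ^ i) v = f^[i] v := fun i v => by rw [Module.End.pow_apply]; rfl
  have hLP : L ^ p ^ k = 1 := LinearMap.ext fun v => by rw [hLi, hk]; rfl
  refine ⟨fun h1 v => ?_, fun P m φ mv hstep hm => ?_⟩
  · obtain ⟨e1, e2⟩ := affine_pow p L hLP (m := 1) (by rw [hfr, h1, pow_one]; exact (Fact.out : p.Prime).one_lt)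
    have hnil : IsNilpotent (L - 1) := ⟨p ^ k, by
      have h := congrArg (aeval L) (sub_pow_char_pow (R := (ZMod p)[X]) (p := p) (n := k) X 1)
      simp only [map_pow, map_sub, map_one, aeval_X, one_pow] at h
      rw [h, hLP, sub_self]⟩
    have h := LinearMap.aeval_self_charpoly (L - 1)
    rw [IsNilpotent.charpoly_eq_X_pow_finrank hnil, map_pow, aeval_X, hfr, h1, pow_one, sub_eq_zero] at h
    exact (show L v = v by rw [h]; rfl)
  · obtain ⟨e1, e2⟩ := affine_pow p L hLP (hfr.symm ▸ hm : Module.finrank (ZMod p) V < p ^ m)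
    have hiter : ∀ i : ℕ, ∀ v, φ v + i = φ ((L ^ i) v + (∑ j ∈ Finset.range i, L ^ j) mv) := by
      intro i
      induction i with
      | zero => intro v; simp
      | succ i ih =>
        intro v
        rw [Nat.cast_succ, ← add_assoc, ih, hstep, geom_sum_succ, pow_succ', LinearMap.add_apply,
          Module.End.mul_apply, Module.End.mul_apply, Module.End.one_apply,
          show f _ = L _ from rfl, map_add, add_assoc]
    have := hiter (p ^ m) 0
    rwa [e1, e2, Module.End.one_apply, LinearMap.zero_apply, add_zero, add_eq_left] at this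

theorem iterate_cycle (p : ℕ) [Fact p.Prime] {V : Type*} [AddCommGroup V] [Finite V] (hexp : ∀ v : V, p • v = 0)
    (f : V →+ V) {k a : ℕ} (hk : ∀ v, f^[p ^ k] v = v) (hcard : Nat.card V = p ^ a) :
    (a = 1 → ∀ v, f v = v) ∧
    ∀ (P m : ℕ) (φ : V → ZMod P) (mv : V), (∀ v, φ v + 1 = φ (f v + mv)) → a < p ^ m → ((p ^ m : ℕ) : ZMod P) = 0 :=
  @iterate_cycle_aux p _ V _ (AddCommGroup.zmodModule hexp) _ f k a hk hcard

/-- The translation of the residues. -/
def shift (P : ℕ) : Equiv.Perm (ZMod P) := Equiv.addRight 1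

theorem shift_apply {P : ℕ} (x : ZMod P) : shift P x = x + 1 := rfl

theorem shift_pow {P : ℕ} (j : ℕ) (x : ZMod P) : (shift P ^ j) x = x + j := by
  induction j with
  | zero => simp
  | succ j ih => rw [pow_succ', Equiv.Perm.mul_apply, ih, shift_apply, Nat.cast_succ]; ring

theorem affine_of_solvable (p : ℕ) [Fact p.Prime] (hp3 : 3 ≤ p) :
    ∀ a : ℕ, ∀ (h : 1 ≤ a) (G : Subgroup (Equiv.Perm (ZMod (p ^ a)))), Group.IsSolvable G → shift (p ^ a) ∈ G →
      ∀ g ∈ G, ∃ α β : ZMod p, ∀ x : ZMod (p ^ a),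
        ZMod.castHom (dvd_pow_self p (show a ≠ 0 by omega)) (ZMod p) (g x) =
          α * ZMod.castHom (dvd_pow_self p (show a ≠ 0 by omega)) (ZMod p) x + β := by
  intro a
  induction a using Nat.strong_induction_on with
  | _ a IH =>
  intro ha G hG hc g hg
  have hP : 1 < p ^ a := Nat.one_lt_pow (by omega) (by omega)
  haveI : Fact (1 < p ^ a) := ⟨hP⟩
  haveI : NeZero (p ^ a) := ⟨by omega⟩
  haveI : Nontrivial G := ⟨⟨⟨_, hc⟩, 1, fun e => by
    have e' := Equiv.ext_iff.1 (congrArg Subtype.val e) 0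
    rw [shift_apply, zero_add] at e'
    exact one_ne_zero e'⟩⟩
  obtain ⟨r, N, hr, hNn, hN, hNc, hNr⟩ := exists_elementary (G := G)
  haveI := hNn
  set c : G := ⟨_, hc⟩ with hcdef
  have hc1 : ∀ x : ZMod (p ^ a), (c : Equiv.Perm (ZMod (p ^ a))) x = x + 1 := fun x => rfl
  have hcj : ∀ (j : ℕ) (x : ZMod (p ^ a)), ((c ^ j : G) : Equiv.Perm (ZMod (p ^ a))) x = x + j := fun j x => by
    rw [Subgroup.coe_pow]; exact shift_pow j x
  -- the orbit of zero is a subgroup of the residues
  set orb : ZMod (p ^ a) → Set (ZMod (p ^ a)) := fun x => {y | ∃ n ∈ N, (n : Equiv.Perm (ZMod (p ^ a))) x = y} with horb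
  have hgorb : ∀ (h : G) (x y), y ∈ orb x → (h : Equiv.Perm (ZMod (p ^ a))) y ∈ orb ((h : Equiv.Perm _) x) := by
    rintro h x y ⟨n, hn, rfl⟩
    exact ⟨h * n * h⁻¹, hNn.conj_mem n hn h, by simp⟩
  have hadd : ∀ (x y : ZMod (p ^ a)) (j : ℕ), y ∈ orb x → y + j ∈ orb (x + j) := fun x y j h => by
    have := hgorb (c ^ j) x y h
    rwa [hcj, hcj] at this
  let B : AddSubgroup (ZMod (p ^ a)) :=
    { carrier := orb 0
      zero_mem' := ⟨1, one_mem _, rfl⟩
      add_mem' := fun {x y} hx hy => by
        obtain ⟨n, hn, hnx⟩ := hx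
        have := hadd 0 y x.val hy
        rw [ZMod.natCast_val, ZMod.cast_id, zero_add] at this
        obtain ⟨n', hn', e⟩ := this
        exact ⟨n' * n, mul_mem hn' hn, by
          rw [Subgroup.coe_mul, Equiv.Perm.mul_apply, hnx, e, add_comm]⟩
      neg_mem' := fun {x} hx => by
        obtain ⟨n, hn, hnx⟩ := hx
        have := hadd 0 x (-x).val ⟨n, hn, hnx⟩
        rw [ZMod.natCast_val, ZMod.cast_id, zero_add, add_neg_cancel] at this
        obtain ⟨n', hn', e⟩ := this
        exact ⟨n'⁻¹, inv_mem hn', by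
          rw [Subgroup.coe_inv, Equiv.Perm.inv_eq_iff_eq, e]⟩ }
  have memB : ∀ x, x ∈ B ↔ x ∈ orb 0 := fun x => Iff.rfl
  have horbB : ∀ x y : ZMod (p ^ a), y ∈ orb x ↔ y - x ∈ B := by
    intro x y
    constructor
    · intro h
      have := hadd x y (-x).val h
      rw [ZMod.natCast_val, ZMod.cast_id, add_neg_cancel, ← sub_eq_add_neg] at this
      exact this
    · intro h
      have := hadd 0 (y - x) x.val h
      rwa [ZMod.natCast_val, ZMod.cast_id, sub_add_cancel, zero_add] at this
  have hBne : ∃ x ∈ B, x ≠ 0 := by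
    by_contra h
    push Not at h
    refine hN ((Subgroup.eq_bot_iff_forall N).2 fun n hn => Subtype.ext (Equiv.ext fun x => ?_))
    have := h _ ((horbB x _).1 ⟨n, hn, rfl⟩)
    rwa [sub_eq_zero] at this
  -- a stabiliser
  have hstab : ∀ n ∈ N, (∀ x, x ∈ B) → (n : Equiv.Perm (ZMod (p ^ a))) 0 = 0 → n = 1 := by
    intro n hn hB h0
    refine Subtype.ext (Equiv.ext fun x => ?_)
    obtain ⟨n', hn', rfl⟩ := hB x
    rw [← Equiv.Perm.mul_apply, ← Subgroup.coe_mul, hNc n hn n' hn', Subgroup.coe_mul, Equiv.Perm.mul_apply, h0]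
    rfl
  by_cases hBtop : ∀ x, x ∈ B
  · -- transitive: then regular, and `a = 1`
    have hbij : Function.Bijective (fun n : N => ((n : G) : Equiv.Perm (ZMod (p ^ a))) 0) :=
      ⟨fun n n' e => by
        refine (inv_mul_eq_one.1 (Subtype.ext (hstab ((n' : G)⁻¹ * n) (mul_mem (inv_mem n'.2) n.2) hBtop ?_))).symm
        rw [Subgroup.coe_mul, Equiv.Perm.mul_apply, show ((n : G) : Equiv.Perm (ZMod (p ^ a))) 0 = _ from e,
          Subgroup.coe_inv, Equiv.Perm.inv_def, Equiv.symm_apply_apply],
      fun x => by obtain ⟨n, hn, e⟩ := hBtop x; exact ⟨⟨n, hn⟩, e⟩⟩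
    have hNcard : Nat.card N = p ^ a := by rw [Nat.card_eq_of_bijective _ hbij, Nat.card_zmod]
    have hrp : r = p := by
      haveI := Fact.mk hr
      have hpN : p ∣ Nat.card N := by rw [hNcard]; exact dvd_pow_self p (by omega)
      obtain ⟨y, hy⟩ := exists_prime_orderOf_dvd_card' (G := N) p hpN
      have hyr : y ^ r = 1 := Subtype.ext (hNr y y.2)
      exact ((Nat.prime_dvd_prime_iff_eq (Fact.out) hr).1 (hy ▸ orderOf_dvd_of_pow_eq_one hyr)).symm
    subst hrp
    letI : CommGroup N := { (inferInstance : Group N) with mul_comm := fun x y => Subtype.ext (hNc x x.2 y y.2) }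
    let f : Additive N →+ Additive N := (MulAut.conjNormal c : N ≃* N).toMonoidHom.toAdditive
    have hf : ∀ v : Additive N, ((Additive.toMul (f v) : N) : G) = c * (Additive.toMul v : N) * c⁻¹ := fun v => rfl
    have hfi : ∀ (i : ℕ) (v : Additive N),
        ((Additive.toMul (f^[i] v) : N) : G) = c ^ i * (Additive.toMul v : N) * (c ^ i)⁻¹ := by
      intro i
      induction i with
      | zero => intro v; simp
      | succ i ih => intro v; rw [Function.iterate_succ_apply', hf, ih, pow_succ']; group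
    have hcP : c ^ r ^ a = 1 := Subtype.ext (Equiv.ext fun x => by rw [hcj, ZMod.natCast_self, add_zero]; rfl)
    obtain ⟨hone, hcyc⟩ := iterate_cycle r (V := Additive N) (fun v => Additive.toMul.injective (by
        rw [toMul_nsmul, toMul_zero]; exact Subtype.ext (hNr _ (Additive.toMul v).2))) f (k := a) (a := a)
      (fun v => Additive.toMul.injective (Subtype.ext (by rw [hfi, hcP, one_mul, inv_one, mul_one])))
      ((Nat.card_congr Additive.toMul).trans hNcard)
    let φ : Additive N → ZMod (r ^ a) := fun v => ((Additive.toMul v : N) : G).1 0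
    have hφ : Function.Bijective φ := hbij.comp Additive.toMul.bijective
    rcases eq_or_lt_of_le ha with rfl | ha2
    · -- degree `r`: the translation lies in `N`
      have hcN : c ∈ N := by
        obtain ⟨n1, hn1⟩ := hbij.2 1
        have hcomm : ∀ n : N, c * (n : G) = (n : G) * c := fun n => by
          have h := hf (Additive.ofMul n)
          rw [hone rfl] at h
          exact (mul_inv_eq_iff_eq_mul.1 h.symm)
        have : c = (n1 : G) := Subtype.ext (Equiv.ext fun x => by
          obtain ⟨n, rfl⟩ := hbij.2 x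
          show (c : Equiv.Perm (ZMod (r ^ 1))) (((n : G) : Equiv.Perm (ZMod (r ^ 1))) 0) = ((n1 : G) : Equiv.Perm (ZMod (r ^ 1))) (((n : G) : Equiv.Perm (ZMod (r ^ 1))) 0)
          rw [← Equiv.Perm.mul_apply, ← Subgroup.coe_mul, hcomm, Subgroup.coe_mul, Equiv.Perm.mul_apply, hc1, zero_add,
            ← show ((n1 : G) : Equiv.Perm (ZMod (r ^ 1))) 0 = 1 from hn1, ← Equiv.Perm.mul_apply, ← Subgroup.coe_mul,
            hNc _ n.2 _ n1.2, Subgroup.coe_mul, Equiv.Perm.mul_apply])
        exact this ▸ n1.2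
      obtain ⟨i, hi⟩ : ∃ i : ℕ, (⟨g, hg⟩ : G) * c * (⟨g, hg⟩ : G)⁻¹ = c ^ i := by
        have hm := hNn.conj_mem c hcN ⟨g, hg⟩
        obtain ⟨n, hn⟩ : ∃ n : N, (n : G) = (⟨g, hg⟩ : G) * c * (⟨g, hg⟩ : G)⁻¹ := ⟨⟨_, hm⟩, rfl⟩
        refine ⟨(((n : G) : Equiv.Perm (ZMod (r ^ 1))) 0).val, hn ▸ congrArg Subtype.val
          (hbij.1 (a₂ := (⟨c ^ _, pow_mem hcN _⟩ : N)) ?_)⟩
        show ((n : G) : Equiv.Perm (ZMod (r ^ 1))) 0 = ((c ^ _ : G) : Equiv.Perm (ZMod (r ^ 1))) 0
        rw [hcj, zero_add, ZMod.natCast_val, ZMod.cast_id]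
      have key : ∀ x : ZMod (r ^ 1), g x = g 0 + i * x := by
        intro x
        have h : ∀ j : ℕ, g (j : ZMod (r ^ 1)) = g 0 + i * j := by
          intro j
          have hh : (⟨g, hg⟩ : G) * c ^ j = c ^ (i * j) * ⟨g, hg⟩ := by
            rw [pow_mul, ← hi, conj_pow]; group
          have := Equiv.ext_iff.1 (congrArg Subtype.val hh) 0
          rw [Subgroup.coe_mul, Subgroup.coe_mul, Equiv.Perm.mul_apply, Equiv.Perm.mul_apply, hcj, hcj, zero_add] at this
          push_cast at this ⊢
          exact this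
        have := h x.val
        rwa [ZMod.natCast_val, ZMod.cast_id] at this
      refine ⟨(i : ZMod r), ZMod.castHom (dvd_pow_self r one_ne_zero) (ZMod r) (g 0), fun x => ?_⟩
      rw [key, map_add, map_mul, map_natCast, add_comm]
    · exfalso
      have hq : a < r ^ (a - 1) := by
        have : ∀ b, 1 ≤ b → b + 1 < r ^ b := by
          intro b hb
          induction b with
          | zero => omega
          | succ b ih =>
            rcases Nat.eq_zero_or_pos b with rfl | hb'
            · rw [pow_one]; omega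
            · have := ih hb'
              rw [pow_succ]
              nlinarith
        have := this (a - 1) (by omega)
        omega
      obtain ⟨mv, hmv⟩ := hφ.2 1
      have hstep : ∀ v, φ v + 1 = φ (f v + mv) := by
        intro v
        rw [← hc1]
        show _ = ((Additive.toMul (f v + mv) : N) : G).1 0
        rw [toMul_add, Subgroup.coe_mul, hf, Subgroup.coe_mul, Equiv.Perm.mul_apply,
          show ((Additive.toMul mv : N) : G).1 0 = (c : Equiv.Perm (ZMod (r ^ a))) 0 from hmv.trans (by rw [hc1, zero_add]),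
          Subgroup.coe_mul, Equiv.Perm.mul_apply, Subgroup.coe_inv, Equiv.Perm.inv_def, Equiv.symm_apply_apply,
          Subgroup.coe_mul, Equiv.Perm.mul_apply]
      have := hcyc (r ^ a) (a - 1) φ mv hstep hq
      rw [ZMod.natCast_eq_zero_iff] at this
      exact absurd ((Nat.pow_dvd_pow_iff_le_right hr.one_lt).1 this) (by omega)
  · -- imprimitive: pass to the quotient
    push Not at hBtop
    obtain ⟨x0, hx0⟩ := hBtop
    have hdvd := AddSubgroup.card_addSubgroup_dvd_card B
    have hmul := B.card_mul_index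
    rw [Nat.card_zmod] at hdvd hmul
    obtain ⟨b, hb, hbB⟩ := (Nat.dvd_prime_pow Fact.out).1 hdvd
    rw [hbB] at hmul
    have hidx : B.index = p ^ (a - b) := by
      refine Nat.eq_of_mul_eq_mul_left (show 0 < p ^ b by positivity) ?_
      rw [← pow_add, Nat.add_sub_cancel' hb]
      exact hmul
    have hb0 : b ≠ 0 := fun e => by
      rw [e, pow_zero] at hbB
      obtain ⟨y, hy, hy0⟩ := hBne
      haveI : Subsingleton B := (Nat.card_eq_one_iff_unique.1 hbB).1
      exact hy0 (congrArg Subtype.val (Subsingleton.elim (⟨y, hy⟩ : B) ⟨0, B.zero_mem⟩))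
    have hba : b ≠ a := fun e => hx0 (by
      have : B = ⊤ := AddSubgroup.eq_top_of_card_eq B (by rw [hbB, e, Nat.card_zmod])
      rw [this]; trivial)
    set a' := a - b with ha'
    let π : ZMod (p ^ a) →+* ZMod (p ^ a') := ZMod.castHom (pow_dvd_pow p (by omega)) _
    have hpow : p ^ b * p ^ a' = p ^ a := by rw [← pow_add, Nat.add_sub_cancel' hb]
    have hker : ∀ y, y ∈ B ↔ π y = 0 := by
      have hsub : ∀ y ∈ B, π y = 0 := by
        intro y hy
        have h : p ^ b • y = 0 := hbB ▸ congrArg Subtype.val (card_nsmul_eq_zero' (x := (⟨y, hy⟩ : B)))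
        rw [show π y = ((y.val : ℕ) : ZMod (p ^ a')) by rw [← map_natCast π, ZMod.natCast_val, ZMod.cast_id],
          ZMod.natCast_eq_zero_iff]
        rw [nsmul_eq_mul, ← ZMod.natCast_zmod_val y, ← Nat.cast_mul, ZMod.natCast_eq_zero_iff] at h
        exact Nat.dvd_of_mul_dvd_mul_left (show 0 < p ^ b by positivity) (dvd_trans hpow.dvd h)
      intro y
      refine ⟨hsub y, fun hy => ?_⟩
      have hc' : Nat.card π.toAddMonoidHom.ker = p ^ b := by
        have h1 := AddSubgroup.card_mul_index π.toAddMonoidHom.ker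
        rw [AddSubgroup.index_ker, AddMonoidHom.range_eq_top.2 (show Function.Surjective π from
            ZMod.castHom_surjective (pow_dvd_pow p (show a' ≤ a by omega))), AddSubgroup.card_top,
          Nat.card_zmod, Nat.card_zmod] at h1
        exact Nat.eq_of_mul_eq_mul_right (show 0 < p ^ a' by positivity) (h1.trans hpow.symm)
      have : B = π.toAddMonoidHom.ker := AddSubgroup.eq_of_le_of_card_ge hsub (by rw [hc', hbB])
      rw [this]
      exact hy
    have hsurj : Function.Surjective π := ZMod.castHom_surjective _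
    have hwell : ∀ (h : G) (x y), π x = π y → π ((h : Equiv.Perm _) x) = π ((h : Equiv.Perm _) y) := by
      intro h x y e
      have hy : y - x ∈ B := (hker _).2 (by rw [map_sub, e, sub_self])
      have := (hker _).1 ((horbB _ _).1 (hgorb h x y ((horbB x y).2 hy)))
      rw [map_sub, sub_eq_zero] at this
      exact this.symm
    obtain ⟨bar, hbar⟩ : ∃ bar : G → ZMod (p ^ a') → ZMod (p ^ a'),
        ∀ (h : G) x, bar h (π x) = π ((h : Equiv.Perm _) x) :=
      ⟨fun h z => π ((h : Equiv.Perm _) (Function.surjInv hsurj z)),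
        fun h x => hwell h _ _ (Function.surjInv_eq hsurj (π x))⟩
    let Φ : G →* Equiv.Perm (ZMod (p ^ a')) :=
      { toFun := fun h =>
          { toFun := bar h
            invFun := bar h⁻¹
            left_inv := fun z => by
              obtain ⟨x, rfl⟩ := hsurj z
              rw [hbar, hbar, Subgroup.coe_inv, Equiv.Perm.inv_def, Equiv.symm_apply_apply]
            right_inv := fun z => by
              obtain ⟨x, rfl⟩ := hsurj z
              rw [hbar, hbar, Subgroup.coe_inv, Equiv.Perm.inv_def, Equiv.apply_symm_apply] }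
        map_one' := Equiv.ext fun z => by
          obtain ⟨x, rfl⟩ := hsurj z
          show bar 1 (π x) = π x
          rw [hbar]; rfl
        map_mul' := fun h k => Equiv.ext fun z => by
          obtain ⟨x, rfl⟩ := hsurj z
          show bar (h * k) (π x) = bar h (bar k (π x))
          rw [hbar, hbar, hbar]; rfl }
    haveI := hG
    obtain ⟨α, β, hαβ⟩ := IH a' (by omega) (by omega) Φ.range
      (Group.isSolvable_of_surjective (f := Φ.rangeRestrict) Φ.rangeRestrict_surjective) ⟨c, Equiv.ext fun z => by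
        obtain ⟨x, rfl⟩ := hsurj z
        show bar c (π x) = _
        rw [hbar, hc1, map_add, map_one]; rfl⟩ (Φ ⟨g, hg⟩) ⟨_, rfl⟩
    refine ⟨α, β, fun x => ?_⟩
    have h := hαβ (π x)
    rw [show Φ ⟨g, hg⟩ (π x) = π (g x) from hbar _ _] at h
    rwa [← RingHom.comp_apply, ← RingHom.comp_apply, Subsingleton.elim
      ((ZMod.castHom (dvd_pow_self p (show a' ≠ 0 by omega)) (ZMod p)).comp π)
      (ZMod.castHom (dvd_pow_self p (show a ≠ 0 by omega)) (ZMod p))] at h

end Cfsg.Agent.PPairs
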