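import Cfsg.Agent.Lib.Alt.PPairs.Small

/-! Pairs generating a non-solvable group whose product is no `p`-element. -/

set_option autoImplicit false

namespace Cfsg.Agent.PPairs

open Equiv

/-- The product is no `p`-element and the two generate a non-solvable group. -/
def Free {G : Type*} [Group G] (p : ℕ) (u v : G) : Prop :=
  (¬ ∃ k : ℕ, orderOf (u * v) = p ^ k) ∧ ¬ Group.IsSolvable ↥(Subgroup.closure ({u, v} : Set G))

variable {G K : Type*} [Group G] [Group K] {p : ℕ} {u v : G}

theorem closure_map (f : G →* K) (u v : G) :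
    (Subgroup.closure ({u, v} : Set G)).map f = Subgroup.closure ({f u, f v} : Set K) := by
  rw [MonoidHom.map_closure, Set.image_insert_eq, Set.image_singleton]

theorem Free.comap (hp : p.Prime) (f : G →* K) (h : Free p (f u) (f v)) : Free p u v := by
  refine ⟨fun ⟨k, hk⟩ => h.1 ?_, fun hs => h.2 ?_⟩
  · have hd := orderOf_map_dvd f (u * v)
    rw [map_mul, hk] at hd
    obtain ⟨j, -, hj⟩ := (Nat.dvd_prime_pow hp).1 hd
    exact ⟨j, hj⟩
  · haveI := hs
    rw [← closure_map f u v]
    exact Group.isSolvable_of_surjective (f := f.subgroupMap _) (f.subgroupMap_surjective _)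

theorem Free.map (f : G →* K) (hf : Function.Injective f) (h : Free p u v) : Free p (f u) (f v) := by
  refine ⟨fun ⟨k, hk⟩ => h.1 ⟨k, ?_⟩, fun hs => h.2 ?_⟩
  · rwa [← map_mul, orderOf_injective f hf] at hk
  · rw [← closure_map f u v] at hs
    haveI := hs
    exact Group.isSolvable_of_isSolvable_injective
      (f := (Subgroup.equivMapOfInjective (Subgroup.closure ({u, v} : Set G)) f hf).toMonoidHom)
      (Subgroup.equivMapOfInjective (Subgroup.closure ({u, v} : Set G)) f hf).injective

theorem Free.conj (g : G) (h : Free p u v) : Free p (g * u * g⁻¹) (g * v * g⁻¹) :=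
  h.map (MulAut.conj g).toMonoidHom (MulAut.conj g).injective

theorem Free.swap (h : Free p u v) : Free p v u := by
  refine ⟨fun ⟨k, hk⟩ => h.1 ⟨k, ?_⟩, fun hs => h.2 ?_⟩
  · rw [← hk, show v * u = MulAut.conj u⁻¹ (u * v) by simp [mul_assoc], MulEquiv.orderOf_eq]
  · rwa [Set.pair_comm]

/-- A solvable group has no triangle relations of pairwise coprime exponents. -/
theorem triangle {l m n : ℕ} (hlm : Nat.Coprime l m) (hln : Nat.Coprime l n) (hmn : Nat.Coprime m n)
    (hs : Group.IsSolvable ↥(Subgroup.closure ({u, v} : Set G))) (hu : u ^ l = 1) (hv : v ^ m = 1)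
    (huv : (u * v) ^ n = 1) : u = 1 := by
  set H := Subgroup.closure ({u, v} : Set G) with hH
  haveI := hs
  set a : H := ⟨u, Subgroup.subset_closure (by simp)⟩ with ha
  set b : H := ⟨v, Subgroup.subset_closure (by simp)⟩ with hb
  have cop : ∀ {A : Type _} [Group A] {x : A} {i j : ℕ}, Nat.Coprime i j → x ^ i = 1 → x ^ j = 1 → x = 1 :=
    fun {A} _ {x} {i j} h hi hj => orderOf_eq_one_iff.1 (Nat.dvd_one.1 (h ▸ Nat.dvd_gcd
      (orderOf_dvd_of_pow_eq_one hi) (orderOf_dvd_of_pow_eq_one hj)))
  set x := Abelianization.of a with hx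
  set y := Abelianization.of b with hy
  have hxl : x ^ l = 1 := by rw [hx, ← map_pow, show a ^ l = 1 from Subtype.ext hu, map_one]
  have hym : y ^ m = 1 := by rw [hy, ← map_pow, show b ^ m = 1 from Subtype.ext hv, map_one]
  have hxyn : x ^ n * y ^ n = 1 := by
    rw [← mul_pow, hx, hy, ← map_mul, ← map_pow, show (a * b) ^ n = 1 from Subtype.ext huv, map_one]
  have hx1 : x = 1 := by
    refine cop (Nat.Coprime.mul_right hlm hln) hxl ?_
    rw [mul_comm m n, pow_mul, eq_inv_of_mul_eq_one_left hxyn, inv_pow, ← pow_mul, mul_comm n m, pow_mul, hym,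
      one_pow, inv_one]
  have hy1 : y = 1 := cop hmn hym (by rw [hx1, one_pow, one_mul] at hxyn; exact hxyn)
  have htop : commutator H = ⊤ := by
    rw [eq_top_iff]
    rintro z -
    have key : ∀ w (hw : w ∈ H), (⟨w, hw⟩ : H) ∈ commutator H := by
      intro w hw
      refine Subgroup.closure_induction (p := fun w hw => (⟨w, hw⟩ : H) ∈ commutator H) ?_ ?_ ?_ ?_ hw
      · rintro w (rfl | rfl)
        · rw [← Abelianization.ker_of, MonoidHom.mem_ker]; exact hx1
        · rw [← Abelianization.ker_of, MonoidHom.mem_ker]; exact hy1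
      · exact one_mem (commutator H)
      · intro w w' hw hw' h h'; exact mul_mem h h'
      · intro w hw h; exact inv_mem h
    exact key z.1 z.2
  obtain ⟨k, hk⟩ := (Group.isSolvable_def (G := H)).1 hs
  have hall : ∀ j, derivedSeries H j = ⊤ := by
    intro j
    induction j with
    | zero => rfl
    | succ j ih => rw [derivedSeries_succ, ih]; exact htop
  rw [hall] at hk
  have hab : a ∈ (⊥ : Subgroup H) := hk ▸ Subgroup.mem_top a
  exact congrArg Subtype.val (Subgroup.mem_bot.1 hab)

theorem solvable_mono {H H' : Subgroup G} (h : H ≤ H') (hs : Group.IsSolvable H') : Group.IsSolvable H := by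
  haveI := hs
  exact Group.isSolvable_of_isSolvable_injective (f := Subgroup.inclusion h) (Subgroup.inclusion_injective h)

theorem free_of_goodFive {u v : Perm (Fin 5)} (hu5 : u ^ 5 = 1) (hu : u ≠ 1) (h : GoodFive u v) :
    ∃ τ : Perm (Fin 5), Perm.sign τ = 1 ∧ Free 5 u (τ * v * τ⁻¹) := by
  haveI : Fact (Nat.Prime 5) := ⟨by norm_num⟩
  haveI : Fact (Nat.Prime 3) := ⟨Nat.prime_three⟩
  obtain ⟨τ, hτ, h3, h1, i, j, h2, hi, -⟩ := h
  set w := τ * v * τ⁻¹
  refine ⟨τ, hτ, fun ⟨k, hk⟩ => ?_, fun hs => ?_⟩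
  · rw [orderOf_eq_prime h3 h1] at hk
    rcases k with _ | k
    · norm_num at hk
    · exact absurd (hk.symm ▸ dvd_pow_self 5 (Nat.succ_ne_zero k) : 5 ∣ 3) (by norm_num)
  · have hx : u * w ∈ Subgroup.closure ({u, w} : Set (Perm (Fin 5))) :=
      mul_mem (Subgroup.subset_closure (by simp)) (Subgroup.subset_closure (by simp))
    have hs' : Group.IsSolvable ↥(Subgroup.closure ({u ^ i.1, (u * w) ^ j.1} : Set (Perm (Fin 5)))) := by
      refine solvable_mono ((Subgroup.closure_le _).2 ?_) hs
      rintro t (rfl | rfl)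
      · exact pow_mem (Subgroup.subset_closure (by simp)) _
      · exact pow_mem hx _
    have := triangle (l := 5) (m := 3) (n := 2) (by norm_num) (by norm_num) (by norm_num) hs'
      (by rw [← pow_mul, mul_comm, pow_mul, hu5, one_pow]) (by rw [← pow_mul, mul_comm, pow_mul, h3, one_pow]) h2
    have hd := orderOf_dvd_of_pow_eq_one this
    rw [orderOf_eq_prime hu5 hu] at hd
    exact hi (Nat.eq_zero_of_dvd_of_lt hd i.2)

theorem free_of_goodThree {m : ℕ} {u v : Perm (Fin m)} (hu3 : u ^ 3 = 1) (hu : u ≠ 1) (h : GoodThree u v) :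
    ∃ τ : Perm (Fin m), Perm.sign τ = 1 ∧ Free 3 u (τ * v * τ⁻¹) := by
  haveI : Fact (Nat.Prime 5) := ⟨by norm_num⟩
  obtain ⟨τ, hτ, h5, h1, j, h4, -⟩ := h
  set w := τ * v * τ⁻¹
  refine ⟨τ, hτ, fun ⟨k, hk⟩ => ?_, fun hs => ?_⟩
  · rw [orderOf_eq_prime h5 h1] at hk
    rcases k with _ | k
    · norm_num at hk
    · exact absurd (hk.symm ▸ dvd_pow_self 3 (Nat.succ_ne_zero k) : 3 ∣ 5) (by norm_num)
  · have hs' : Group.IsSolvable ↥(Subgroup.closure ({u, (u * w) ^ j.1} : Set (Perm (Fin m)))) := by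
      refine solvable_mono ((Subgroup.closure_le _).2 ?_) hs
      rintro t (rfl | rfl)
      · exact Subgroup.subset_closure (by simp)
      · exact pow_mem (mul_mem (Subgroup.subset_closure (by simp)) (Subgroup.subset_closure (by simp [w]))) _
    exact hu (triangle (l := 3) (m := 5) (n := 4) (by norm_num) (by norm_num) (by norm_num) hs' hu3
      (by rw [← pow_mul, mul_comm, pow_mul, h5, one_pow]) h4)

end Cfsg.Agent.PPairs
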