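import Cfsg.Agent.Lib.Alt.PPairs.Affine
import Cfsg.Agent.Lib.Alt.PPairs.Free

/-! The translation of at least seven residues against an arbitrary `p`-element. -/

set_option autoImplicit false

namespace Cfsg.Agent.PPairs

open Equiv

/-- An even permutation sending four given points to four given points. -/
theorem exists_even_map {α : Type*} [Fintype α] [DecidableEq α] (hα : 7 ≤ Fintype.card α) {x y : Fin 4 → α}
    (hx : Function.Injective x) (hy : Function.Injective y) :
    ∃ τ : Perm α, Perm.sign τ = 1 ∧ ∀ i, τ (x i) = y i := by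
  haveI h4 : MulAction.IsMultiplyPretransitive (alternatingGroup α) α 4 := by
    haveI := alternatingGroup.isMultiplyPretransitive α
    exact MulAction.isMultiplyPretransitive_of_le (G := alternatingGroup α) (α := α) (n := Nat.card α - 2)
      (by rw [Nat.card_eq_fintype_card]; omega) (by simp)
  obtain ⟨τ, hτ⟩ := h4.exists_smul_eq (⟨x, hx⟩ : Fin 4 ↪ α) ⟨y, hy⟩
  exact ⟨τ, τ.2, fun i => congrArg (fun e : Fin 4 ↪ α => e i) hτ⟩

/-- An even permutation sending three given points to three given points. -/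
theorem exists_even_map' {α : Type*} [Fintype α] [DecidableEq α] (hα : 7 ≤ Fintype.card α) {x y : Fin 3 → α}
    (hx : Function.Injective x) (hy : Function.Injective y) :
    ∃ τ : Perm α, Perm.sign τ = 1 ∧ ∀ i, τ (x i) = y i := by
  obtain ⟨z, hz⟩ : ∃ z, z ∉ Finset.univ.image x := Finset.exists_mem_notMem_of_card_lt_card (t := Finset.univ) (by
    rw [Finset.card_image_of_injective _ hx]; simp; omega) |>.imp fun z hz => hz.2
  obtain ⟨t, ht⟩ : ∃ t, t ∉ Finset.univ.image y := Finset.exists_mem_notMem_of_card_lt_card (t := Finset.univ) (by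
    rw [Finset.card_image_of_injective _ hy]; simp; omega) |>.imp fun z hz => hz.2
  simp only [Finset.mem_image, Finset.mem_univ, true_and, not_exists] at hz ht
  obtain ⟨τ, hτ, h⟩ := exists_even_map hα (x := Fin.snoc x z) (y := Fin.snoc y t)
    (Fin.snoc_injective_iff.2 ⟨hx, fun ⟨i, e⟩ => hz i e⟩) (Fin.snoc_injective_iff.2 ⟨hy, fun ⟨i, e⟩ => ht i e⟩)
  refine ⟨τ, hτ, fun i => ?_⟩
  have := h i.castSucc
  rwa [Fin.snoc_castSucc, Fin.snoc_castSucc] at this

theorem inj_four {α : Type*} {a b c d : α} (h1 : a ≠ b) (h2 : a ≠ c) (h3 : a ≠ d) (h4 : b ≠ c) (h5 : b ≠ d)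
    (h6 : c ≠ d) : Function.Injective ![a, b, c, d] := by
  intro i j h
  fin_cases i <;> fin_cases j <;> simp_all

theorem inj_three {α : Type*} {a b c : α} (h1 : a ≠ b) (h2 : a ≠ c) (h3 : b ≠ c) :
    Function.Injective ![a, b, c] := by
  intro i j h
  fin_cases i <;> fin_cases j <;> simp_all

variable (p : ℕ) [Fact p.Prime] (hp3 : 3 ≤ p) {a : ℕ} (ha : 1 ≤ a)
include hp3 ha

/-- A `p`-element in a solvable group with the translation moves residues by a constant modulo `p`. -/
theorem const_shift {v : Perm (ZMod (p ^ a))} {k : ℕ} (hv : orderOf v = p ^ k)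
    (hs : Group.IsSolvable ↥(Subgroup.closure ({shift (p ^ a), v} : Set (Perm (ZMod (p ^ a)))))) :
    ∀ x y : ZMod (p ^ a),
      ZMod.castHom (dvd_pow_self p (show a ≠ 0 by omega)) (ZMod p) (v x - x) =
        ZMod.castHom (dvd_pow_self p (show a ≠ 0 by omega)) (ZMod p) (v y - y) := by
  set π := ZMod.castHom (dvd_pow_self p (show a ≠ 0 by omega)) (ZMod p)
  obtain ⟨α, β, h⟩ := affine_of_solvable p hp3 a ha _ hs (Subgroup.subset_closure (by simp)) v
    (Subgroup.subset_closure (by simp))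
  have hiter : ∀ i, ∃ γ : ZMod p, ∀ x, π ((v ^ i) x) = α ^ i * π x + γ := by
    intro i
    induction i with
    | zero => exact ⟨0, fun x => by simp⟩
    | succ i ih =>
      obtain ⟨γ, hγ⟩ := ih
      exact ⟨α * γ + β, fun x => by rw [pow_succ', Perm.mul_apply, h, hγ, pow_succ']; ring⟩
  obtain ⟨γ, hγ⟩ := hiter (p ^ k)
  have h0 := hγ 0
  have h1 := hγ 1
  rw [← hv, pow_orderOf_eq_one, hv] at h0 h1
  simp only [Perm.coe_one, id_eq, map_zero, mul_zero, zero_add] at h0
  simp only [Perm.coe_one, id_eq, map_one, mul_one] at h1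
  rw [← h0, add_zero, ZMod.pow_card_pow] at h1
  intro x y
  rw [map_sub, map_sub, h, h, ← h1]
  ring

theorem big (hP : 7 ≤ p ^ a) (v : Perm (ZMod (p ^ a))) {k : ℕ} (hv : orderOf v = p ^ k) (hv1 : v ≠ 1) :
    haveI : NeZero (p ^ a) := ⟨by omega⟩
    ∃ τ : Perm (ZMod (p ^ a)), Perm.sign τ = 1 ∧ Free p (shift (p ^ a)) (τ * v * τ⁻¹) := by
  haveI : NeZero (p ^ a) := ⟨by omega⟩
  haveI : Fact (1 < p ^ a) := ⟨by omega⟩
  have hcard : 7 ≤ Fintype.card (ZMod (p ^ a)) := by rw [ZMod.card]; exact hP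
  have small : ∀ i : ℤ, i ≠ 0 → i.natAbs < p ^ a → (i : ZMod (p ^ a)) ≠ 0 := fun i hi hlt h => by
    rw [ZMod.intCast_zmod_eq_zero_iff_dvd] at h
    exact hi (Int.eq_zero_of_dvd_of_natAbs_lt_natAbs h (by simpa using hlt))
  have diff : ∀ i j : ℤ, i ≠ j → (i - j).natAbs < p ^ a → (i : ZMod (p ^ a)) ≠ (j : ZMod (p ^ a)) :=
    fun i j h hlt e => small (i - j) (sub_ne_zero.2 h) hlt (by rw [Int.cast_sub, e, sub_self])
  set π := ZMod.castHom (dvd_pow_self p (show a ≠ 0 by omega)) (ZMod p)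
  -- a transposition in the product spoils the order
  have notp : ∀ (w : Perm (ZMod (p ^ a))) (x y : ZMod (p ^ a)), x ≠ y → (shift (p ^ a) * w) x = y →
      (shift (p ^ a) * w) y = x → ¬ ∃ l, orderOf (shift (p ^ a) * w) = p ^ l := by
    rintro w x y hxy hx hy ⟨l, hl⟩
    have hev : ∀ i, ((shift (p ^ a) * w) ^ (2 * i)) x = x := by
      intro i
      induction i with
      | zero => rfl
      | succ i ih => rw [mul_add, mul_one, pow_succ, pow_succ, Perm.mul_apply, Perm.mul_apply, hx, hy, ih]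
    obtain ⟨j, hj⟩ : Odd (p ^ l) := ((Fact.out : p.Prime).odd_of_ne_two (by omega)).pow
    have h := Equiv.ext_iff.1 (pow_orderOf_eq_one (shift (p ^ a) * w)) x
    rw [hl, hj, pow_succ', Perm.mul_apply, hev, hx] at h
    exact hxy h.symm
  have fin : ∀ (τ : Perm (ZMod (p ^ a))), Perm.sign τ = 1 → ∀ (x y : ZMod (p ^ a)), x ≠ y →
      shift (p ^ a) ((τ * v * τ⁻¹) x) = y → shift (p ^ a) ((τ * v * τ⁻¹) y) = x →
      π ((τ * v * τ⁻¹) x - x) ≠ π ((τ * v * τ⁻¹) y - y) →
      ∃ τ : Perm (ZMod (p ^ a)), Perm.sign τ = 1 ∧ Free p (shift (p ^ a)) (τ * v * τ⁻¹) := by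
    intro τ hτ x y hxy hx hy hne
    refine ⟨τ, hτ, notp _ x y hxy hx hy, fun hs => hne ?_⟩
    refine const_shift p hp3 ha (k := k) ?_ hs x y
    rw [← MulAut.conj_apply, MulEquiv.orderOf_eq, hv]
  have conj_apply : ∀ (τ : Perm (ZMod (p ^ a))) (x : ZMod (p ^ a)), (τ * v * τ⁻¹) (τ x) = τ (v x) := fun τ x => by
    rw [Perm.mul_apply, Perm.mul_apply, Perm.inv_def, Equiv.symm_apply_apply]
  obtain ⟨x, hx⟩ : ∃ x, v x ≠ x := by
    by_contra h
    push Not at h
    exact hv1 (Equiv.ext h)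
  by_cases hfix : ∃ f, v f = f
  · -- a fixed point goes to `-1`, an arc to `0 ↦ -2`
    obtain ⟨f, hf⟩ := hfix
    obtain ⟨τ, hτ, h⟩ := exists_even_map' hcard (x := ![x, v x, f]) (y := ![0, -2, -1])
      (inj_three (Ne.symm hx) (fun e => hx (by rw [e, hf])) (fun e => hx (v.injective (e.trans hf.symm) ▸ e)))
      (inj_three (by simpa using diff 0 (-2) (by norm_num) (by simp; omega))
        (by simpa using diff 0 (-1) (by norm_num) (by simp; omega))
        (by simpa using diff (-2) (-1) (by norm_num) (by simp; omega)))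
    have h0 : τ x = 0 := h 0
    have h1 : τ (v x) = -2 := h 1
    have h2 : τ f = -1 := h 2
    have e0 : (τ * v * τ⁻¹) 0 = -2 := by rw [← h0, conj_apply, h1]
    have e1 : (τ * v * τ⁻¹) (-1) = -1 := by rw [← h2, conj_apply, hf]
    refine fin τ hτ 0 (-1) (by simpa using diff 0 (-1) (by norm_num) (by simp; omega))
      (by rw [e0, shift_apply]; ring) (by rw [e1, shift_apply]; ring) ?_
    rw [e0, e1, sub_zero, sub_self, map_zero, map_neg, map_ofNat, neg_ne_zero]
    intro e
    rw [← Nat.cast_ofNat, ZMod.natCast_eq_zero_iff] at e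
    exact absurd (Nat.le_of_dvd two_pos e) (by omega)
  · -- two arcs go to `0 ↦ m` and `m + 1 ↦ -1`
    push Not at hfix
    obtain ⟨y, -, hy⟩ := Finset.exists_mem_notMem_of_card_lt_card (s := ({x, v x, v⁻¹ x} : Finset (ZMod (p ^ a))))
      (t := Finset.univ) (lt_of_le_of_lt Finset.card_le_three (by rw [Finset.card_univ]; omega))
    simp only [Finset.mem_insert, Finset.mem_singleton, not_or] at hy
    obtain ⟨hyx, hyvx, hyvix⟩ := hy
    obtain ⟨m, hm, hmp, hmu⟩ : ∃ m : ℕ, 2 ≤ m ∧ m ≤ 3 ∧ ¬ p ∣ 2 * m + 2 := by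
      by_cases h3 : p = 3
      · exact ⟨3, by norm_num, le_rfl, by rw [h3]; norm_num⟩
      · refine ⟨2, le_rfl, by norm_num, fun h => h3 ?_⟩
        rcases (Fact.out : p.Prime).dvd_mul.1 (show p ∣ 2 * 3 from h) with h' | h'
        · exact absurd (Nat.le_of_dvd two_pos h') (by omega)
        · exact (Nat.prime_dvd_prime_iff_eq Fact.out Nat.prime_three).1 h'
    obtain ⟨τ, hτ, h⟩ := exists_even_map hcard (x := ![x, v x, y, v y])
      (y := ![0, ((m : ℤ) : ZMod (p ^ a)), ((m + 1 : ℤ) : ZMod (p ^ a)), -1])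
      (inj_four (Ne.symm (hfix x)) (Ne.symm hyx)
        (fun e => hyvix (by rw [e, Perm.inv_def, Equiv.symm_apply_apply]))
        (Ne.symm hyvx) (fun e => hyx (v.injective e).symm) (Ne.symm (hfix y)))
      (inj_four (by simpa using diff 0 m (by omega) (by omega))
        (by simpa using diff 0 (m + 1) (by omega) (by omega))
        (by simpa using diff 0 (-1) (by norm_num) (by simp; omega))
        (diff m (m + 1) (by omega) (by omega))
        (by simpa using diff m (-1) (by omega) (by omega))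
        (by simpa using diff (m + 1) (-1) (by omega) (by omega)))
    have h0 : τ x = 0 := h 0
    have h1 : τ (v x) = ((m : ℤ) : ZMod (p ^ a)) := h 1
    have h2 : τ y = ((m + 1 : ℤ) : ZMod (p ^ a)) := h 2
    have h3 : τ (v y) = -1 := h 3
    have e0 : (τ * v * τ⁻¹) 0 = ((m : ℤ) : ZMod (p ^ a)) := by rw [← h0, conj_apply, h1]
    have e1 : (τ * v * τ⁻¹) ((m + 1 : ℤ) : ZMod (p ^ a)) = -1 := by rw [← h2, conj_apply, h3]
    refine fin τ hτ 0 ((m + 1 : ℤ) : ZMod (p ^ a)) (by simpa using diff 0 (m + 1) (by omega) (by omega))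
      (by rw [e0, shift_apply]; push_cast; ring) (by rw [e1, shift_apply]; ring) ?_
    rw [e0, e1, sub_zero, map_sub, map_neg, map_one, map_intCast, map_intCast]
    intro e
    push_cast at e
    apply hmu
    rw [← ZMod.natCast_eq_zero_iff]
    push_cast
    linear_combination e

end Cfsg.Agent.PPairs
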