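import Cfsg.Agent.Lib.Alt.PPairs.Big

/-! Two `p`-elements of an alternating group have conjugates generating a non-solvable group. -/

set_option autoImplicit false

namespace Cfsg.Agent.PPairs

open Equiv Function

variable {α : Type*} [Fintype α] [DecidableEq α] {p : ℕ}

/-- The orbit of a point. -/
noncomputable def orb (w : Perm α) (x : α) : Finset α := (Finset.range (minimalPeriod w x)).image fun i => (⇑w)^[i] x

theorem per_pos (w : Perm α) (x : α) : 0 < minimalPeriod w x :=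
  minimalPeriod_pos_of_mem_periodicPts ⟨orderOf w, orderOf_pos w, by
    show (⇑w)^[orderOf w] x = x
    rw [← Perm.coe_pow, pow_orderOf_eq_one]; rfl⟩

theorem card_orb (w : Perm α) (x : α) : (orb w x).card = minimalPeriod w x := by
  rw [orb, Finset.card_image_of_injOn, Finset.card_range]
  intro i hi j hj h
  exact iterate_injOn_Iio_minimalPeriod (by simpa using hi) (by simpa using hj) h

theorem mem_orb_self (w : Perm α) (x : α) : x ∈ orb w x :=
  Finset.mem_image.2 ⟨0, Finset.mem_range.2 (per_pos w x), rfl⟩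

theorem apply_mem_orb (w : Perm α) (x y : α) (h : y ∈ orb w x) : w y ∈ orb w x := by
  obtain ⟨i, -, rfl⟩ := Finset.mem_image.1 h
  refine Finset.mem_image.2 ⟨(i + 1) % minimalPeriod w x, Finset.mem_range.2 (Nat.mod_lt _ (per_pos w x)), ?_⟩
  rw [iterate_mod_minimalPeriod_eq, iterate_succ_apply']

theorem disjoint_orb {w : Perm α} {S : Finset α} (hS : ∀ y ∈ S, w y ∈ S) {x : α} (hx : x ∉ S) :
    Disjoint S (orb w x) := by
  rw [Finset.disjoint_left]
  intro y hy hy'
  obtain ⟨i, hi, rfl⟩ := Finset.mem_image.1 hy'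
  rw [Finset.mem_range] at hi
  refine hx ?_
  have h : ∀ j, (⇑w)^[j + i] x ∈ S := fun j => by
    induction j with
    | zero => rw [zero_add]; exact hy
    | succ j ih => rw [Nat.succ_add, iterate_succ_apply']; exact hS _ ih
  have := h (minimalPeriod w x - i)
  rwa [Nat.sub_add_cancel hi.le, iterate_minimalPeriod] at this

theorem per_dvd {w : Perm α} {k : ℕ} (hw : orderOf w = p ^ k) (x : α) : minimalPeriod w x ∣ p ^ k :=
  IsPeriodicPt.minimalPeriod_dvd (by
    show (⇑w)^[p ^ k] x = x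
    rw [← Perm.coe_pow, ← hw, pow_orderOf_eq_one]; rfl)

theorem per_dvd_of_le (hp : p.Prime) {w w' : Perm α} {k k' : ℕ} (hw : orderOf w = p ^ k) (hw' : orderOf w' = p ^ k')
    {x y : α} (h : minimalPeriod w x ≤ minimalPeriod w' y) : minimalPeriod w x ∣ minimalPeriod w' y := by
  obtain ⟨i, -, hi⟩ := (Nat.dvd_prime_pow hp).1 (per_dvd hw x)
  obtain ⟨j, -, hj⟩ := (Nat.dvd_prime_pow hp).1 (per_dvd hw' y)
  rw [hi, hj] at h ⊢
  exact pow_dvd_pow p ((Nat.pow_le_pow_iff_right hp.one_lt).1 h)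

/-- An invariant set grows to any admissible size. -/
theorem grow (hp : p.Prime) {w : Perm α} {k : ℕ} (hw : orderOf w = p ^ k) {T : ℕ} (hT : T ≤ Fintype.card α)
    (hdiv : ∀ x, minimalPeriod w x ∣ T) :
    ∀ (n : ℕ) (S : Finset α), T - S.card = n → S.card ≤ T → (∀ y ∈ S, w y ∈ S) →
      (∀ x ∉ S, minimalPeriod w x ∣ S.card) → ∃ S', S ⊆ S' ∧ S'.card = T ∧ ∀ y ∈ S', w y ∈ S' := by
  intro n
  induction n using Nat.strong_induction_on with
  | _ n IH =>
  intro S hn hle hS hout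
  rcases eq_or_lt_of_le hle with h | h
  · exact ⟨S, le_rfl, h, hS⟩
  have hne : (Finset.univ \ S).Nonempty := Finset.card_pos.1 (by
    rw [Finset.card_sdiff_of_subset (Finset.subset_univ S), Finset.card_univ]; omega)
  obtain ⟨x, hx, hmax⟩ := Finset.exists_max_image (Finset.univ \ S) (fun y => minimalPeriod w y) hne
  have hxS : x ∉ S := (Finset.mem_sdiff.1 hx).2
  have hle' : minimalPeriod w x ≤ T - S.card :=
    Nat.le_of_dvd (by omega) (Nat.dvd_sub (hdiv x) (hout x hxS))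
  have hpos := per_pos w x
  have hd := disjoint_orb hS hxS
  have hc : (S ∪ orb w x).card = S.card + minimalPeriod w x := by
    rw [Finset.card_union_of_disjoint hd, card_orb]
  obtain ⟨S', h1, h2, h3⟩ := IH (T - (S.card + minimalPeriod w x)) (by omega) (S ∪ orb w x) (by rw [hc]) (by omega)
    (fun y hy => by
      rcases Finset.mem_union.1 hy with e | e
      · exact Finset.mem_union_left _ (hS y e)
      · exact Finset.mem_union_right _ (apply_mem_orb w x y e))
    (fun y hy => by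
      rw [Finset.mem_union, not_or] at hy
      rw [hc]
      exact Nat.dvd_add (hout y hy.1) (per_dvd_of_le hp hw hw (hmax y (Finset.mem_sdiff.2 ⟨Finset.mem_univ y, hy.1⟩))))
  exact ⟨S', Finset.union_subset_left h1, h2, h3⟩

/-- A set of given size invariant under `w` with a moved point. -/
theorem chunk (hp : p.Prime) {w : Perm α} {k : ℕ} (hw : orderOf w = p ^ k) (hw1 : w ≠ 1) {T : ℕ}
    (hT : T ≤ Fintype.card α) (hT0 : 0 < T) (hdiv : ∀ x, minimalPeriod w x ∣ T) :
    ∃ S : Finset α, S.card = T ∧ (∀ y ∈ S, w y ∈ S) ∧ ∃ z ∈ S, w z ≠ z := by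
  obtain ⟨z, hz⟩ : ∃ z, w z ≠ z := by
    by_contra h
    push Not at h
    exact hw1 (Equiv.ext h)
  obtain ⟨x, -, hmax⟩ := Finset.exists_max_image Finset.univ (fun y => minimalPeriod w y) ⟨z, Finset.mem_univ z⟩
  obtain ⟨S, h1, h2, h3⟩ := grow hp hw hT hdiv (T - (orb w x).card) (orb w x) rfl
    (by rw [card_orb]; exact Nat.le_of_dvd hT0 (hdiv x)) (apply_mem_orb w x)
    (fun y _ => by rw [card_orb]; exact per_dvd_of_le hp hw hw (hmax y (Finset.mem_univ y)))
  refine ⟨S, h2, h3, x, h1 (mem_orb_self w x), fun e => hz ?_⟩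
  have hx1 : minimalPeriod w x = 1 := minimalPeriod_eq_one_iff_isFixedPt.2 e
  exact minimalPeriod_eq_one_iff_isFixedPt.1 (le_antisymm (hx1 ▸ hmax z (Finset.mem_univ z)) (per_pos w z))

/-- Invariant sets are preserved in both directions. -/
theorem mem_iff_of_mapsTo {w : Perm α} {S : Finset α} (hS : ∀ y ∈ S, w y ∈ S) (x : α) : w x ∈ S ↔ x ∈ S := by
  refine ⟨fun h => ?_, hS x⟩
  by_contra hx
  exact Finset.disjoint_left.1 (disjoint_orb hS hx) h (apply_mem_orb w x x (mem_orb_self w x))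

/-- The permutations preserving a set. -/
def setStab (Δ : Finset α) : Subgroup (Perm α) where
  carrier := {g | ∀ x, g x ∈ Δ ↔ x ∈ Δ}
  mul_mem' := fun {g h} hg hh x => by rw [Perm.mul_apply, hg, hh]
  one_mem' := fun x => Iff.rfl
  inv_mem' := fun {g} hg x => by
    have := hg (g⁻¹ x)
    rw [Perm.inv_def, Equiv.apply_symm_apply] at this
    exact this.symm

/-- The restriction to a set, in coordinates. -/
def restr {β : Type*} (Δ : Finset α) (e : β ≃ {x // x ∈ Δ}) : setStab Δ →* Perm β where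
  toFun g := e.symm.permCongr (g.1.subtypePerm fun x => g.2 x)
  map_one' := by ext b; simp
  map_mul' g h := by
    ext b
    simp only [Equiv.permCongr_apply, Perm.mul_apply, Equiv.symm_apply_apply, Equiv.symm_symm, Equiv.apply_symm_apply]
    rfl

theorem restr_apply {β : Type*} (Δ : Finset α) (e : β ≃ {x // x ∈ Δ}) (g : setStab Δ) (b : β) :
    (e (restr Δ e g b) : α) = g.1 (e b) := by
  simp [restr]

theorem orderOf_pow_map (hp : p.Prime) {G K : Type*} [Group G] [Group K] (f : G →* K) {x : G} {k : ℕ}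
    (hx : orderOf x = p ^ k) : ∃ j, orderOf (f x) = p ^ j := by
  have := orderOf_map_dvd f x
  rw [hx] at this
  exact ((Nat.dvd_prime_pow hp).1 this).imp fun j h => h.2

/-- From a set to the whole. -/
theorem transfer (hp : p.Prime) {β : Type*} [Fintype β] [DecidableEq β] {u w : Perm α} {kw : ℕ}
    (hw : orderOf w = p ^ kw) (Δ Δ' : Finset α) (hu : ∀ x ∈ Δ, u x ∈ Δ) (hΔ' : ∀ x ∈ Δ', w x ∈ Δ')
    (hcard : Δ'.card = Δ.card) (h2 : 2 ≤ Δ.card) (hmov : ∃ z ∈ Δ', w z ≠ z) (e : β ≃ {x // x ∈ Δ})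
    (u₀ : Perm β) (hu₀ : ∀ b, u (e b) = e (u₀ b))
    (hloc : ∀ v : Perm β, (∃ j, orderOf v = p ^ j) → v ≠ 1 →
      ∃ τ : Perm β, Perm.sign τ = 1 ∧ Free p u₀ (τ * v * τ⁻¹)) :
    ∃ g : Perm α, Perm.sign g = 1 ∧ Free p u (g * w * g⁻¹) := by
  obtain ⟨σ, hσ, hσΔ⟩ : ∃ σ : Perm α, Perm.sign σ = 1 ∧ ∀ x, σ x ∈ Δ ↔ x ∈ Δ' := by
    let ee : {x // x ∈ Δ'} ≃ {x // x ∈ Δ} := Finset.equivOfCardEq hcard
    have hmem : ∀ x, ee.extendSubtype x ∈ Δ ↔ x ∈ Δ' := fun x => by
      constructor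
      · intro h
        by_contra hx
        exact ee.extendSubtype_not_mem x hx h
      · exact ee.extendSubtype_mem x
    rcases Int.units_eq_one_or (Perm.sign ee.extendSubtype) with h | h
    · exact ⟨_, h, hmem⟩
    · obtain ⟨x, hx, y, hy, hxy⟩ := Finset.one_lt_card.1 (show 1 < Δ'.card by omega)
      refine ⟨ee.extendSubtype * swap x y, by rw [map_mul, h, Perm.sign_swap hxy]; rfl, fun z => ?_⟩
      rw [Perm.mul_apply, hmem]
      rcases eq_or_ne z x with rfl | hzx
      · rw [swap_apply_left]; exact iff_of_true hy hx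
      rcases eq_or_ne z y with rfl | hzy
      · rw [swap_apply_right]; exact iff_of_true hx hy
      · rw [swap_apply_of_ne_of_ne hzx hzy]
  set v := σ * w * σ⁻¹ with hv
  have hvmem : v ∈ setStab Δ := fun x => by
    rw [hv, Perm.mul_apply, Perm.mul_apply, hσΔ, mem_iff_of_mapsTo hΔ', ← hσΔ, Perm.inv_def, Equiv.apply_symm_apply]
  have humem : u ∈ setStab Δ := fun x => mem_iff_of_mapsTo hu x
  have hv1 : restr Δ e ⟨v, hvmem⟩ ≠ 1 := by
    obtain ⟨z, hz, hzw⟩ := hmov
    intro h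
    have h1 := restr_apply Δ e ⟨v, hvmem⟩ (e.symm ⟨σ z, (hσΔ z).2 hz⟩)
    rw [h, Perm.one_apply, Equiv.apply_symm_apply] at h1
    simp only [hv, Perm.mul_apply, Perm.inv_def, Equiv.symm_apply_apply] at h1
    exact hzw (σ.injective h1.symm)
  have hvo : orderOf (⟨v, hvmem⟩ : setStab Δ) = p ^ kw := by
    rw [Subgroup.orderOf_mk, hv, ← MulAut.conj_apply, MulEquiv.orderOf_eq, hw]
  obtain ⟨τ, hτ, hfree⟩ := hloc _ (orderOf_pow_map hp (restr Δ e) hvo) hv1
  set t := τ.extendDomain e with ht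
  have htmem : t ∈ setStab Δ := fun x => by
    by_cases hx : x ∈ Δ
    · have : x = e (e.symm ⟨x, hx⟩) := by rw [Equiv.apply_symm_apply]
      rw [ht, this, Perm.extendDomain_apply_image]
      exact iff_of_true (Subtype.coe_prop _) (Subtype.coe_prop _)
    · rw [ht, Perm.extendDomain_apply_not_subtype _ _ hx]
  have hrt : restr Δ e ⟨t, htmem⟩ = τ := Equiv.ext fun b => e.injective (Subtype.ext (by
    rw [restr_apply]
    exact Perm.extendDomain_apply_image τ e b))
  have hru : restr Δ e ⟨u, humem⟩ = u₀ := Equiv.ext fun b => e.injective (Subtype.ext (by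
    rw [restr_apply]
    exact hu₀ b))
  have hf : Free p (⟨u, humem⟩ : setStab Δ) (⟨t, htmem⟩ * ⟨v, hvmem⟩ * (⟨t, htmem⟩ : setStab Δ)⁻¹) := by
    refine Free.comap hp (restr Δ e) ?_
    rwa [map_mul, map_mul, map_inv, hrt, hru]
  refine ⟨t * σ, by rw [map_mul, hσ, ht, Perm.sign_extendDomain, hτ, one_mul], ?_⟩
  rw [show t * σ * w * (t * σ)⁻¹ = t * v * t⁻¹ by rw [hv]; group]
  exact hf.map (setStab Δ).subtype Subtype.coe_injective

/-- Conjugating the witness of a canonical representative. -/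
theorem of_class {β : Type*} [Fintype β] [DecidableEq β] {u₀ b v : Perm β} {σ : Perm β} (hσ : σ * u₀ * σ⁻¹ = b)
    (h : ∃ τ : Perm β, Perm.sign τ = 1 ∧ Free p b (τ * (σ * v * σ⁻¹) * τ⁻¹)) :
    ∃ τ : Perm β, Perm.sign τ = 1 ∧ Free p u₀ (τ * v * τ⁻¹) := by
  obtain ⟨τ, hτ, hf⟩ := h
  refine ⟨σ⁻¹ * τ * σ, ?_, ?_⟩
  · rw [map_mul, map_mul, hτ, mul_one, ← map_mul, inv_mul_cancel, map_one]
  · have := hf.conj σ⁻¹
    rw [← hσ] at this
    convert this using 1 <;> group

theorem conj_props {G : Type*} [Group G] (σ v : G) (hv : v ^ p = 1) (hv1 : v ≠ 1) :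
    (σ * v * σ⁻¹) ^ p = 1 ∧ σ * v * σ⁻¹ ≠ 1 :=
  ⟨by rw [conj_pow, hv, mul_one, mul_inv_cancel], fun e => hv1 (conj_eq_one_iff.1 e)⟩

theorem five_orders : ∀ v : Perm (Fin 5), v ^ 2 = 1 ∨ v ^ 3 = 1 ∨ v ^ 4 = 1 ∨ v ^ 5 = 1 ∨ v ^ 6 = 1 := by
  decide +kernel

theorem six_orders : ∀ v : Perm (Fin 6), v ^ 2 = 1 ∨ v ^ 3 = 1 ∨ v ^ 4 = 1 ∨ v ^ 5 = 1 ∨ v ^ 6 = 1 := by
  decide +kernel

theorem order_small (m : ℕ) (hm : m = 5 ∨ m = 6) (v : Perm (Fin m)) : orderOf v ≤ 6 := by
  rcases hm with rfl | rfl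
  · rcases five_orders v with h | h | h | h | h <;> exact le_trans (orderOf_le_of_pow_eq_one (by norm_num) h) (by norm_num)
  · rcases six_orders v with h | h | h | h | h <;> exact le_trans (orderOf_le_of_pow_eq_one (by norm_num) h) (by norm_num)

/-- The first element with the longer cycle. -/
theorem ordered (hp : p.Prime) (hp3 : 3 ≤ p) (hn : 5 ≤ Fintype.card α) {u w : Perm α} {ku kw : ℕ}
    (hu : orderOf u = p ^ ku) (hw : orderOf w = p ^ kw) (hu1 : u ≠ 1) (hw1 : w ≠ 1) {a₀ : α}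
    (hau : ∀ x, minimalPeriod u x ≤ minimalPeriod u a₀) (haw : ∀ x, minimalPeriod w x ≤ minimalPeriod u a₀) :
    ∃ g : Perm α, Perm.sign g = 1 ∧ Free p u (g * w * g⁻¹) := by
  haveI := Fact.mk hp
  obtain ⟨a, -, hP⟩ := (Nat.dvd_prime_pow hp).1 (per_dvd hu a₀)
  have hP1 : minimalPeriod u a₀ ≠ 1 := fun h => hu1 (Equiv.ext fun x =>
    minimalPeriod_eq_one_iff_isFixedPt.1 (le_antisymm (h ▸ hau x) (per_pos u x)))
  have ha : 1 ≤ a := Nat.one_le_iff_ne_zero.2 fun e => hP1 (by rw [hP, e, pow_zero])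
  have hdu : ∀ x, minimalPeriod u x ∣ p ^ a := fun x => hP ▸ per_dvd_of_le hp hu hu (hau x)
  have hdw : ∀ x, minimalPeriod w x ∣ p ^ a := fun x => hP ▸ per_dvd_of_le hp hw hu (haw x)
  have hPn : p ^ a ≤ Fintype.card α := by rw [← hP, ← card_orb]; exact Finset.card_le_univ _
  by_cases h7 : 7 ≤ p ^ a
  · haveI : NeZero (p ^ a) := ⟨by omega⟩
    haveI : Fact (1 < p ^ a) := ⟨by omega⟩
    obtain ⟨Δ', hc', hΔ', hmov⟩ := chunk hp hw hw1 hPn (by omega) hdw
    have hc : (orb u a₀).card = p ^ a := by rw [card_orb, hP]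
    let f : ZMod (p ^ a) → {x // x ∈ orb u a₀} := fun z =>
      ⟨(⇑u)^[z.val] a₀, Finset.mem_image.2 ⟨z.val, Finset.mem_range.2 (by rw [hP]; exact ZMod.val_lt z), rfl⟩⟩
    have hf : Bijective f := by
      rw [Fintype.bijective_iff_injective_and_card]
      refine ⟨fun z z' h => ZMod.val_injective _ ?_, by rw [ZMod.card, Fintype.card_coe, hc]⟩
      exact iterate_injOn_Iio_minimalPeriod (by rw [hP]; exact ZMod.val_lt z) (by rw [hP]; exact ZMod.val_lt z')
        (congrArg Subtype.val h)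
    refine transfer hp hw (orb u a₀) Δ' (apply_mem_orb u a₀) hΔ' (by rw [hc', hc]) (by omega) hmov
      (Equiv.ofBijective f hf) (shift (p ^ a)) (fun z => ?_) fun v ⟨j, hj⟩ hv1 => big p hp3 ha h7 v hj hv1
    show u ((⇑u)^[z.val] a₀) = (⇑u)^[(z + 1).val] a₀
    rw [ZMod.val_add, ZMod.val_one]
    conv_rhs => rw [show (z.val + 1) % p ^ a = (z.val + 1) % minimalPeriod u a₀ by rw [hP]]
    rw [iterate_mod_minimalPeriod_eq, iterate_succ_apply']
  · have ha1 : a = 1 := by
      by_contra hne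
      have h9 : p ^ 2 ≤ p ^ a := Nat.pow_le_pow_right (by omega) (by omega)
      have : 9 ≤ p ^ 2 := by nlinarith
      omega
    subst ha1
    rw [pow_one] at *
    have hexp : ∀ {g : Perm α}, (∀ x, minimalPeriod g x ∣ p) → g ^ p = 1 := fun {g} hg => Equiv.ext fun x => by
      rw [Perm.coe_pow]
      exact isPeriodicPt_iff_minimalPeriod_dvd.2 (hg x)
    have hup := hexp hdu
    have key : ∀ m : ℕ, (m = 5 ∨ m = 6) → m ≤ Fintype.card α → (∀ x, minimalPeriod u x ∣ m ∨ m = Fintype.card α) →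
        (∀ x, minimalPeriod w x ∣ m ∨ m = Fintype.card α) →
        (∀ u₀ v : Perm (Fin m), u₀ ^ p = 1 → u₀ ≠ 1 → v ^ p = 1 → v ≠ 1 →
          ∃ τ : Perm (Fin m), Perm.sign τ = 1 ∧ Free p u₀ (τ * v * τ⁻¹)) →
        ∃ g : Perm α, Perm.sign g = 1 ∧ Free p u (g * w * g⁻¹) := by
      intro m hm hmn hmu hmw hloc
      have sets : ∀ {g : Perm α} {k : ℕ}, orderOf g = p ^ k → g ≠ 1 →
          (∀ x, minimalPeriod g x ∣ m ∨ m = Fintype.card α) →
          ∃ S : Finset α, S.card = m ∧ (∀ y ∈ S, g y ∈ S) ∧ ∃ z ∈ S, g z ≠ z := by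
        intro g k hg hg1 hd
        by_cases hmn' : m = Fintype.card α
        · refine ⟨Finset.univ, by rw [Finset.card_univ, hmn'], fun y _ => Finset.mem_univ _, ?_⟩
          by_contra h
          push Not at h
          exact hg1 (Equiv.ext fun z => h z (Finset.mem_univ z))
        · exact chunk hp hg hg1 hmn (by omega) fun x => (hd x).resolve_right hmn'
      obtain ⟨Δ, hc, hΔ, z, hz, hzu⟩ := sets hu hu1 hmu
      obtain ⟨Δ', hc', hΔ', hmov⟩ := sets hw hw1 hmw
      let e : Fin m ≃ {x // x ∈ Δ} := (Finset.equivFinOfCardEq hc).symm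
      have humem : u ∈ setStab Δ := fun x => mem_iff_of_mapsTo hΔ x
      have hu0 : restr Δ e ⟨u, humem⟩ ≠ 1 := by
        intro h
        have h1 := restr_apply Δ e ⟨u, humem⟩ (e.symm ⟨z, hz⟩)
        rw [h, Perm.one_apply, Equiv.apply_symm_apply] at h1
        exact hzu h1.symm
      refine transfer hp hw Δ Δ' hΔ hΔ' (by rw [hc', hc]) (by omega) hmov e (restr Δ e ⟨u, humem⟩)
        (fun b => (restr_apply Δ e ⟨u, humem⟩ b).symm) fun v ⟨j, hj⟩ hv1 => hloc _ v ?_ hu0 ?_ hv1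
      · rw [← map_pow, show (⟨u, humem⟩ : setStab Δ) ^ p = 1 from Subtype.ext hup, map_one]
      · have hj1 : j ≤ 1 := by
          by_contra hne
          have h1 : p ^ 2 ≤ p ^ j := Nat.pow_le_pow_right (by omega) (by omega)
          have h9 : 9 ≤ p ^ 2 := by nlinarith
          have := order_small m hm v
          omega
        exact orderOf_dvd_iff_pow_eq_one.1 (hj ▸ (pow_dvd_pow p hj1).trans (by rw [pow_one]))
    have hp5 : p = 3 ∨ p = 5 := by
      have h4 : p ≠ 4 := fun e => by rw [e] at hp; norm_num at hp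
      have h6 : p ≠ 6 := fun e => by rw [e] at hp; norm_num at hp
      omega
    rcases hp5 with rfl | rfl
    · by_cases h5 : Fintype.card α = 5
      · refine key 5 (Or.inl rfl) h5.ge (fun x => Or.inr h5.symm) (fun x => Or.inr h5.symm) fun u₀ v hu0 hu0' hv0 hv0' => ?_
        obtain ⟨σ, hσ⟩ := five_three_class u₀ hu0 hu0'
        obtain ⟨hc1, hc2⟩ := conj_props σ v hv0 hv0'
        exact of_class hσ (free_of_goodThree (by decide +kernel) (by decide +kernel) (five_three_base _ hc1 hc2))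
      · refine key 6 (Or.inr rfl) (by omega) (fun x => Or.inl ((hdu x).trans (by norm_num)))
          (fun x => Or.inl ((hdw x).trans (by norm_num))) fun u₀ v hu0 hu0' hv0 hv0' => ?_
        obtain ⟨σ, hσ | hσ⟩ := six_three_class u₀ hu0 hu0'
        · obtain ⟨hc1, hc2⟩ := conj_props σ v hv0 hv0'
          exact of_class hσ (free_of_goodThree (by decide +kernel) (by decide +kernel) (six_three_base _ hc1 hc2).1)
        · obtain ⟨hc1, hc2⟩ := conj_props σ v hv0 hv0'
          exact of_class hσ (free_of_goodThree (by decide +kernel) (by decide +kernel) (six_three_base _ hc1 hc2).2)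
    · refine key 5 (Or.inl rfl) hn (fun x => Or.inl (hdu x)) (fun x => Or.inl (hdw x)) fun u₀ v hu0 hu0' hv0 hv0' => ?_
      obtain ⟨σ, hσ⟩ := five_five_class u₀ hu0 hu0'
      obtain ⟨hc1, hc2⟩ := conj_props σ v hv0 hv0'
      exact of_class hσ (free_of_goodFive (by decide +kernel) (by decide +kernel) (five_five_base _ hc1 hc2))

theorem main (hp : p.Prime) (hp3 : 3 ≤ p) (hn : 5 ≤ Fintype.card α) {u w : Perm α} {ku kw : ℕ}
    (hu : orderOf u = p ^ ku) (hw : orderOf w = p ^ kw) (hu1 : u ≠ 1) (hw1 : w ≠ 1) :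
    ∃ g : Perm α, Perm.sign g = 1 ∧ Free p u (g * w * g⁻¹) := by
  have hne : (Finset.univ : Finset α).Nonempty := Finset.card_pos.1 (by rw [Finset.card_univ]; omega)
  obtain ⟨a, -, ha⟩ := Finset.exists_max_image Finset.univ (fun x => minimalPeriod u x) hne
  obtain ⟨b, -, hb⟩ := Finset.exists_max_image Finset.univ (fun x => minimalPeriod w x) hne
  rcases le_total (minimalPeriod w b) (minimalPeriod u a) with h | h
  · exact ordered hp hp3 hn hu hw hu1 hw1 (fun x => ha x (Finset.mem_univ x))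
      (fun x => (hb x (Finset.mem_univ x)).trans h)
  · obtain ⟨g, hg, hf⟩ := ordered hp hp3 hn hw hu hw1 hu1 (fun x => hb x (Finset.mem_univ x))
      (fun x => (ha x (Finset.mem_univ x)).trans h)
    refine ⟨g⁻¹, by rw [Perm.sign_inv, hg], ?_⟩
    have := (hf.conj g⁻¹).swap
    rwa [show g⁻¹ * (g * u * g⁻¹) * g⁻¹⁻¹ = u by group] at this

end Cfsg.Agent.PPairs
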