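import Mathlib

/-!
Pairs of `p`-elements on five and six points, by finite checks.
-/

set_option autoImplicit false

namespace Cfsg.Agent.PPairs

open Equiv

/-- The witness for five points and `p = 5`. -/
def GoodFive (u v : Perm (Fin 5)) : Prop :=
  ∃ τ : Perm (Fin 5), Perm.sign τ = 1 ∧ (u * (τ * v * τ⁻¹)) ^ 3 = 1 ∧ u * (τ * v * τ⁻¹) ≠ 1 ∧
    ∃ i : Fin 5, ∃ j : Fin 3, (u ^ i.1 * (u * (τ * v * τ⁻¹)) ^ j.1) ^ 2 = 1 ∧ i.1 ≠ 0 ∧ j.1 ≠ 0

/-- The witness for `p = 3`. -/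
def GoodThree {m : ℕ} (u v : Perm (Fin m)) : Prop :=
  ∃ τ : Perm (Fin m), Perm.sign τ = 1 ∧ (u * (τ * v * τ⁻¹)) ^ 5 = 1 ∧ u * (τ * v * τ⁻¹) ≠ 1 ∧
    ∃ j : Fin 5, (u * (u * (τ * v * τ⁻¹)) ^ j.1) ^ 4 = 1 ∧ j.1 ≠ 0

instance (u v : Perm (Fin 5)) : Decidable (GoodFive u v) := by unfold GoodFive; infer_instance

instance {m : ℕ} (u v : Perm (Fin m)) : Decidable (GoodThree u v) := by unfold GoodThree; infer_instance

set_option maxRecDepth 100000 in
theorem five_five_base : ∀ v : Perm (Fin 5), v ^ 5 = 1 → v ≠ 1 → GoodFive (finRotate 5) v := by decide +kernel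

set_option maxRecDepth 100000 in
theorem five_five_class : ∀ u : Perm (Fin 5), u ^ 5 = 1 → u ≠ 1 → ∃ σ : Perm (Fin 5), σ * u * σ⁻¹ = finRotate 5 := by
  decide +kernel

/-- A three-cycle on five points. -/
def threeFive : Perm (Fin 5) := swap 0 1 * swap 1 2

set_option maxRecDepth 100000 in
theorem five_three_base : ∀ v : Perm (Fin 5), v ^ 3 = 1 → v ≠ 1 → GoodThree threeFive v := by decide +kernel

set_option maxRecDepth 100000 in
theorem five_three_class : ∀ u : Perm (Fin 5), u ^ 3 = 1 → u ≠ 1 → ∃ σ : Perm (Fin 5), σ * u * σ⁻¹ = threeFive := by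
  decide +kernel

/-- A three-cycle on six points. -/
def threeSix : Perm (Fin 6) := swap 0 1 * swap 1 2

/-- Two three-cycles on six points. -/
def threeSix' : Perm (Fin 6) := swap 0 1 * swap 1 2 * (swap 3 4 * swap 4 5)

set_option maxRecDepth 100000 in
theorem six_three_base : ∀ v : Perm (Fin 6), v ^ 3 = 1 → v ≠ 1 → GoodThree threeSix v ∧ GoodThree threeSix' v := by
  decide +kernel

set_option maxRecDepth 100000 in
theorem six_three_class : ∀ u : Perm (Fin 6), u ^ 3 = 1 → u ≠ 1 →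
    ∃ σ : Perm (Fin 6), σ * u * σ⁻¹ = threeSix ∨ σ * u * σ⁻¹ = threeSix' := by decide +kernel

end Cfsg.Agent.PPairs
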